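/-
Kaplansky: projective modules are direct sums of countably generated modules, and are free over
local rings (helper33).
-/
import Groth.Agent.ProjDesc.Basic
import Mathlib.LinearAlgebra.Projection
import Mathlib.Algebra.DirectSum.Module
import Mathlib.Order.CompactlyGenerated.Basic
import Mathlib.RingTheory.LocalRing.ResidueField.Basic
import Mathlib.LinearAlgebra.Matrix.NonsingularInverse
import Mathlib.LinearAlgebra.Matrix.ToLin

set_option autoImplicit false
universe u

namespace Groth.Agent.Kaplansky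

variable {R : Type u} [CommRing R]

theorem isCountablyGenerated_of_surjective {M N : Type u} [AddCommGroup M] [Module R M]
    [AddCommGroup N] [Module R N] (f : M →ₗ[R] N) (hf : Function.Surjective f)
    (h : CAlg.IsCountablyGenerated R M) : CAlg.IsCountablyGenerated R N := by
  obtain ⟨s, hs, hspan⟩ := h
  refine ⟨f '' s, hs.image f, ?_⟩
  rw [← Submodule.map_span, hspan, Submodule.map_top, LinearMap.range_eq_top.mpr hf]

theorem exists_span_of_isCountablyGenerated {M : Type u} [AddCommGroup M] [Module R M]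
    (N : Submodule R M) (h : CAlg.IsCountablyGenerated R N) :
    ∃ s : Set M, s.Countable ∧ Submodule.span R s = N := by
  obtain ⟨s, hs, hspan⟩ := h
  refine ⟨N.subtype '' s, hs.image _, ?_⟩
  rw [← Submodule.map_span, hspan, Submodule.map_subtype_top]

theorem isCountablyGenerated_of_span {M : Type u} [AddCommGroup M] [Module R M] {s : Set M}
    (hs : s.Countable) : CAlg.IsCountablyGenerated R (Submodule.span R s) := by
  refine ⟨Subtype.val ⁻¹' s, hs.preimage Subtype.val_injective, ?_⟩
  refine Submodule.map_injective_of_injective (Submodule.span R s).injective_subtype ?_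
  rw [Submodule.map_span, Submodule.map_subtype_top, Submodule.coe_subtype,
    Set.image_preimage_eq_of_subset (fun y hy ↦ ⟨⟨y, Submodule.subset_span hy⟩, rfl⟩)]

theorem isCountablyGenerated_map_comap {F P : Type u} [AddCommGroup F] [Module R F] [AddCommGroup P]
    [Module R P] (W L : Submodule R F) (e : W →ₗ[R] P) (hle : L ≤ W)
    (h : CAlg.IsCountablyGenerated R L) :
    CAlg.IsCountablyGenerated R ((L.comap W.subtype).map e) :=
  isCountablyGenerated_of_surjective (e.submoduleMap (L.comap W.subtype))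
    (LinearMap.submoduleMap_surjective e _)
    (isCountablyGenerated_of_surjective (Submodule.comapSubtypeEquivOfLe hle).symm.toLinearMap
      (Submodule.comapSubtypeEquivOfLe hle).symm.surjective h)

section Decomp

variable {M : Type u} [AddCommGroup M] [Module R M] {ι : Type u} {N : ι → Submodule R M}

/-- The sum of the submodules indexed by a set. -/
def part (N : ι → Submodule R M) (S : Set ι) : Submodule R M := ⨆ i ∈ S, N i

theorem part_mono {S T : Set ι} (h : S ⊆ T) : part N S ≤ part N T :=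
  biSup_mono h

theorem part_union (S T : Set ι) : part N (S ∪ T) = part N S ⊔ part N T :=
  iSup_union

theorem le_part {S : Set ι} {i : ι} (h : i ∈ S) : N i ≤ part N S :=
  le_biSup N h

theorem part_univ : part N Set.univ = ⨆ i, N i := by simp [part]

/-- Countable closure. -/
theorem exists_countable_stable (hsup : ⨆ i, N i = ⊤) (hc : ∀ i, CAlg.IsCountablyGenerated R (N i))
    (π : M →ₗ[R] M) (i : ι) :
    ∃ T : Set ι, T.Countable ∧ i ∈ T ∧ (part N T).map π ≤ part N T := by
  classical
  have hfin : ∀ x : M, ∃ t : Finset ι, x ∈ part N t := fun x ↦ by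
    obtain ⟨t, ht⟩ := Submodule.exists_finset_of_mem_iSup N (hsup ▸ Submodule.mem_top : x ∈ ⨆ i, N i)
    exact ⟨t, ht⟩
  choose t ht using hfin
  choose g hg hgspan using fun j ↦ exists_span_of_isCountablyGenerated (N j) (hc j)
  let nxt : Set ι → Set ι := fun T ↦ T ∪ ⋃ j ∈ T, ⋃ x ∈ g j, (t (π x) : Set ι)
  let T : ℕ → Set ι := fun n ↦ nxt^[n] {i}
  have hTc : ∀ n, (T n).Countable := by
    intro n
    induction n with
    | zero => exact Set.countable_singleton i
    | succ n ih =>
      simp only [T, Function.iterate_succ', Function.comp_apply]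
      exact ih.union (ih.biUnion fun j _ ↦ (hg j).biUnion fun x _ ↦ (t (π x)).countable_toSet)
  refine ⟨⋃ n, T n, Set.countable_iUnion hTc, Set.mem_iUnion.mpr ⟨0, rfl⟩, ?_⟩
  rw [part, Submodule.map_iSup]
  refine iSup_le fun j ↦ ?_
  rw [Submodule.map_iSup]
  refine iSup_le fun hj ↦ ?_
  obtain ⟨n, hn⟩ := Set.mem_iUnion.mp hj
  rw [← hgspan j, Submodule.map_span, Submodule.span_le]
  rintro _ ⟨x, hx, rfl⟩
  refine part_mono (fun k hk ↦ Set.mem_iUnion.mpr ⟨n + 1, ?_⟩) (ht (π x))
  simp only [T, Function.iterate_succ', Function.comp_apply]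
  exact Or.inr (Set.mem_biUnion hn (Set.mem_biUnion hx hk))

theorem isCountablyGenerated_part (hc : ∀ i, CAlg.IsCountablyGenerated R (N i)) {T : Set ι}
    (hT : T.Countable) : CAlg.IsCountablyGenerated R (part N T) := by
  choose g hg hgspan using fun j ↦ exists_span_of_isCountablyGenerated (N j) (hc j)
  have : part N T = Submodule.span R (⋃ j ∈ T, g j) := by
    simp only [part, Submodule.span_iUnion, hgspan]
  rw [this]
  exact isCountablyGenerated_of_span (hT.biUnion fun j _ ↦ hg j)

/-- Kaplansky's theorem on direct summands of direct sums of countably generated modules. -/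
theorem exists_decomposition [DecidableEq ι] (hN : DirectSum.IsInternal N)
    (hc : ∀ i, CAlg.IsCountablyGenerated R (N i)) (P Q : Submodule R M) (hPQ : IsCompl P Q) :
    ∃ 𝓛 : Set (Submodule R M), (∀ L ∈ 𝓛, CAlg.IsCountablyGenerated R L) ∧ sSupIndep 𝓛 ∧
      sSup 𝓛 = P := by
  classical
  have hind := hN.submodule_iSupIndep
  have hsup : ⨆ i, N i = ⊤ := hN.submodule_iSup_eq_top
  let π := P.projection Q hPQ
  have hπP : ∀ x, π x ∈ P := Submodule.projection_apply_mem hPQ
  have hπid : ∀ x ∈ P, π x = x := fun x hx ↦ Submodule.projection_apply_of_mem_left hPQ hx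
  let good : Set (Set ι × Set (Submodule R M)) := {p | (part N p.1).map π ≤ part N p.1 ∧
    (∀ L ∈ p.2, CAlg.IsCountablyGenerated R L) ∧ sSupIndep p.2 ∧ sSup p.2 = part N p.1 ⊓ P}
  obtain ⟨⟨S, 𝓛⟩, -, hmax⟩ := zorn_le_nonempty₀ good (by
    intro c hc' hchain y hy
    refine ⟨(⋃ p ∈ c, p.1, ⋃ p ∈ c, p.2), ⟨?_, ?_, ?_, ?_⟩, fun p hp ↦
      ⟨Set.subset_biUnion_of_mem (u := fun p : Set ι × Set (Submodule R M) ↦ p.1) hp,
        Set.subset_biUnion_of_mem (u := fun p : Set ι × Set (Submodule R M) ↦ p.2) hp⟩⟩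
    · simp only [part, Submodule.map_iSup]
      refine iSup₂_le fun j hj ↦ ?_
      obtain ⟨p, hp, hjp⟩ := Set.mem_iUnion₂.mp hj
      exact ((Submodule.map_mono (le_part hjp)).trans (hc' hp).1).trans
        (part_mono (Set.subset_biUnion_of_mem (u := fun p : Set ι × Set (Submodule R M) ↦ p.1) hp))
    · intro L hL
      obtain ⟨p, hp, hLp⟩ := Set.mem_iUnion₂.mp hL
      exact (hc' hp).2.1 L hLp
    · rw [show (⋃ p ∈ c, p.2) = ⋃ p : c, p.1.2 from Set.biUnion_eq_iUnion c fun p _ ↦ p.2]
      refine sSupIndep_iUnion_of_directed (fun a b ↦ ?_) fun a ↦ (hc' a.2).2.2.1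
      obtain h | h := hchain.total a.2 b.2
      · exact ⟨b, h.2, subset_rfl⟩
      · exact ⟨a, subset_rfl, h.2⟩
    · refine le_antisymm (sSup_le fun L hL ↦ ?_) ?_
      · obtain ⟨p, hp, hLp⟩ := Set.mem_iUnion₂.mp hL
        exact ((le_sSup hLp).trans (hc' hp).2.2.2.le).trans (inf_le_inf_right _
          (part_mono (Set.subset_biUnion_of_mem (u := fun p : Set ι × Set (Submodule R M) ↦ p.1) hp)))
      · rintro x ⟨hx, hxP⟩
        rw [← hπid x hxP]
        have hmap : (part N (⋃ p ∈ c, p.1)).map π ≤ sSup (⋃ p ∈ c, p.2) := by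
          simp only [part, Submodule.map_iSup]
          refine iSup₂_le fun j hj ↦ ?_
          obtain ⟨p, hp, hjp⟩ := Set.mem_iUnion₂.mp hj
          refine le_trans ?_ (sSup_le_sSup (Set.subset_biUnion_of_mem
            (u := fun p : Set ι × Set (Submodule R M) ↦ p.2) hp))
          rw [(hc' hp).2.2.2]
          refine le_inf ((Submodule.map_mono (le_part hjp)).trans (hc' hp).1) ?_
          rintro _ ⟨z, -, rfl⟩
          exact hπP z
        exact hmap ⟨x, hx, rfl⟩) (∅, ∅) ⟨by simp [part], by simp, sSupIndep_empty, by simp [part]⟩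
  obtain ⟨⟨hstab, hcg, hsind, hsSup⟩, hmax⟩ := hmax
  by_cases hS : S = Set.univ
  · refine ⟨𝓛, hcg, hsind, ?_⟩
    simp only at hsSup
    rw [hsSup, hS, part_univ, hsup, top_inf_eq]
  exfalso
  obtain ⟨i, hi⟩ := (Set.ne_univ_iff_exists_notMem S).mp hS
  obtain ⟨T, hTc, hiT, hTstab⟩ := exists_countable_stable hsup hc π i
  have hcompl : IsCompl (part N S) (part N Sᶜ) := by
    refine ⟨hind.disjoint_biSup_biSup disjoint_compl_right, ?_⟩
    rw [codisjoint_iff, ← part_union, Set.union_compl_self, part_univ, hsup]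
  let r := (part N S).projection (part N Sᶜ) hcompl
  let k : M →ₗ[R] M := π ∘ₗ r
  have hk : ∀ x, k x ∈ part N S ⊓ P := fun x ↦
    ⟨hstab ⟨_, Submodule.projection_apply_mem hcompl x, rfl⟩, hπP _⟩
  have hkid : ∀ x ∈ part N S ⊓ P, k x = x := fun x hx ↦ by
    simp only [k, LinearMap.comp_apply, r]
    rw [Submodule.projection_apply_of_mem_left hcompl hx.1, hπid x hx.2]
  let φ : M →ₗ[R] M := (LinearMap.id - k) ∘ₗ π
  let L : Submodule R M := (part N T).map φ
  have hL : L ≤ part N (S ∪ T) ⊓ P := by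
    rintro _ ⟨x, hx, rfl⟩
    refine Submodule.sub_mem _ ⟨part_mono Set.subset_union_right (hTstab ⟨x, hx, rfl⟩), hπP x⟩ ?_
    exact ⟨part_mono Set.subset_union_left (hk _).1, (hk _).2⟩
  have hdisj : Disjoint (part N S ⊓ P) L := by
    rw [Submodule.disjoint_def]
    rintro _ hy ⟨x, -, rfl⟩
    rw [← hkid _ hy]
    simp only [φ, LinearMap.comp_apply, LinearMap.sub_apply, LinearMap.id_apply, map_sub]
    rw [hkid _ (hk (π x)), sub_self]
  have hsum : (part N S ⊓ P) ⊔ L = part N (S ∪ T) ⊓ P := by
    refine le_antisymm (sup_le (inf_le_inf_right _ (part_mono Set.subset_union_left)) hL) ?_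
    rintro x ⟨hx, hxP⟩
    rw [SetLike.mem_coe, part_union, Submodule.mem_sup] at hx
    obtain ⟨a, ha, b, hb, rfl⟩ := hx
    rw [← hπid _ hxP, map_add]
    refine Submodule.add_mem _ (Submodule.mem_sup_left ⟨hstab ⟨a, ha, rfl⟩, hπP a⟩) ?_
    have : π b = k (π b) + φ b := by simp [φ]
    rw [this]
    exact Submodule.add_mem _ (Submodule.mem_sup_left (hk _)) (Submodule.mem_sup_right ⟨b, hb, rfl⟩)
  have hnew : ((S ∪ T, insert L 𝓛) : Set ι × Set (Submodule R M)) ∈ good := by
    refine ⟨?_, ?_, ?_, ?_⟩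
    · simp only [part_union, Submodule.map_sup]
      exact sup_le_sup hstab hTstab
    · rintro L' (rfl | hL')
      · exact isCountablyGenerated_of_surjective
          (φ.submoduleMap (part N T)) (φ.submoduleMap_surjective _) (isCountablyGenerated_part hc hTc)
      · exact hcg L' hL'
    · intro a ha
      simp only at hsSup
      have hdisj' : Disjoint (sSup 𝓛) L := hsSup ▸ hdisj
      by_cases haL : a = L
      · subst haL
        refine hdisj'.symm.mono_right (sSup_le_sSup ?_)
        rintro b ⟨rfl | hb, hne⟩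
        · exact absurd rfl hne
        · exact hb
      · have ha' : a ∈ 𝓛 := ha.resolve_left haL
        have hle : a ⊔ sSup (𝓛 \ {a}) ≤ sSup 𝓛 :=
          sup_le (le_sSup ha') (sSup_le_sSup Set.diff_subset)
        refine ((hsind ha').disjoint_sup_right_of_disjoint_sup_left (hdisj'.mono_left hle)).mono_right
          (sSup_le ?_)
        rintro b ⟨rfl | hb, hne⟩
        · exact le_sup_right
        · exact le_sup_of_le_left (le_sSup ⟨hb, hne⟩)
    · simp only at hsSup ⊢
      rw [sSup_insert, sup_comm, hsSup, hsum]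
  exact hi ((hmax hnew ⟨Set.subset_union_left, Set.subset_insert _ _⟩).1 (Or.inr hiT))

theorem isInternal_comap {P : Submodule R M} {𝓛 : Set (Submodule R M)} [DecidableEq 𝓛]
    (hind : sSupIndep 𝓛) (hsup : sSup 𝓛 = P) :
    DirectSum.IsInternal fun L : 𝓛 ↦ Submodule.comap P.subtype (L : Submodule R M) := by
  have hle : ∀ L : 𝓛, (L : Submodule R M) ≤ P := fun L ↦ hsup ▸ le_sSup L.2
  have hmap : ∀ L : 𝓛, (Submodule.comap P.subtype (L : Submodule R M)).map P.subtype = L := fun L ↦ by
    rw [Submodule.map_comap_subtype, inf_eq_right.mpr (hle L)]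
  refine DirectSum.isInternal_submodule_of_iSupIndep_of_iSup_eq_top (fun L ↦ ?_) ?_
  · rw [disjoint_iff]
    refine Submodule.map_injective_of_injective P.injective_subtype ?_
    rw [Submodule.map_inf _ P.injective_subtype, Submodule.map_bot, hmap, Submodule.map_iSup]
    simp only [Submodule.map_iSup, hmap]
    exact disjoint_iff.mp (((sSupIndep_iff 𝓛).mp hind) L)
  · refine Submodule.map_injective_of_injective P.injective_subtype ?_
    simp only [Submodule.map_iSup, hmap, Submodule.map_subtype_top]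
    rw [← sSup_eq_iSup', hsup]

end Decomp

theorem summand {M : Type u} [AddCommGroup M] [Module R M] {ι : Type u} [DecidableEq ι]
    {N : ι → Submodule R M} (hN : DirectSum.IsInternal N) (i : ι) :
    ∃ r : M →ₗ[R] N i, r ∘ₗ (N i).subtype = LinearMap.id :=
  ⟨DirectSum.component R ι _ i ∘ₗ
      (LinearEquiv.ofBijective (DirectSum.coeLinearMap N) hN).symm.toLinearMap,
    LinearMap.ext fun x ↦ hN.ofBijective_coeLinearMap_same x⟩

/-- A retract of a Mittag-Leffler module is Mittag-Leffler. -/
theorem isMittagLeffler_of_retract {M N : Type u} [AddCommGroup M] [Module R M] [AddCommGroup N]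
    [Module R N] (h : CAlg.IsMittagLeffler R M) (s : N →ₗ[R] M) (r : M →ₗ[R] N)
    (hrs : r ∘ₗ s = LinearMap.id) : CAlg.IsMittagLeffler R N := by
  intro κ Q _ _
  rw [injective_iff_map_eq_zero]
  intro z hz
  have h0 : s.rTensor (Π i, Q i) z = 0 := by
    refine (injective_iff_map_eq_zero _).mp (h κ Q) _ ?_
    ext i
    rw [MLMod.piRightHom_rTensor, hz]
    simp
  have := congr_arg (r.rTensor (Π i, Q i)) h0
  rwa [← LinearMap.comp_apply, ← LinearMap.rTensor_comp, hrs, LinearMap.rTensor_id, map_zero] at this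

set_option backward.isDefEq.respectTransparency false in
/-- A projective module is an internal direct sum of countably generated submodules. -/
theorem exists_decomposition_of_projective (P : Type u) [AddCommGroup P] [Module R P]
    [Module.Projective R P] :
    ∃ (κ : Type u) (_ : DecidableEq κ) (L : κ → Submodule R P), DirectSum.IsInternal L ∧
      ∀ k, CAlg.IsCountablyGenerated R (L k) := by
  classical
  obtain ⟨s, hs⟩ := ‹Module.Projective R P›.out
  let g : P → Submodule R (P →₀ R) := fun p ↦ LinearMap.range (Finsupp.lsingle p : R →ₗ[R] (P →₀ R))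
  have hg : DirectSum.IsInternal g := by
    refine DirectSum.isInternal_submodule_of_iSupIndep_of_iSup_eq_top ?_ Finsupp.iSup_lsingle_range
    intro p
    rw [Submodule.disjoint_def]
    rintro _ ⟨a, rfl⟩ hx
    have h0 : ∀ x ∈ ⨆ (q) (_ : q ≠ p), g q, x p = 0 := by
      have : ⨆ (q) (_ : q ≠ p), g q ≤ LinearMap.ker (Finsupp.lapply p : (P →₀ R) →ₗ[R] R) :=
        iSup₂_le fun q hq ↦ by
          rintro _ ⟨b, rfl⟩
          exact Finsupp.single_eq_of_ne hq.symm
      exact fun x hx ↦ this hx
    have ha : a = 0 := by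
      have := h0 _ hx
      rwa [Finsupp.lsingle_apply, Finsupp.single_eq_same] at this
    rw [ha, map_zero]
  have hgc : ∀ p, CAlg.IsCountablyGenerated R (g p) := fun p ↦
    isCountablyGenerated_of_surjective _ (Finsupp.lsingle p : R →ₗ[R] (P →₀ R)).surjective_rangeRestrict
      ⟨{1}, Set.countable_singleton 1, Ideal.span_singleton_one⟩
  let e := LinearEquiv.ofInjective s (Function.LeftInverse.injective hs)
  have hcompl : IsCompl (LinearMap.range s) (LinearMap.ker (Finsupp.linearCombination R (id : P → P))) := by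
    refine ⟨Submodule.disjoint_def.mpr ?_, codisjoint_iff.mpr (Submodule.eq_top_iff'.mpr fun x ↦ ?_)⟩
    · rintro _ ⟨y, rfl⟩ hy
      rw [LinearMap.mem_ker] at hy
      rw [← hs y, hy, map_zero]
    · rw [Submodule.mem_sup]
      exact ⟨s (Finsupp.linearCombination R id x), ⟨_, rfl⟩, x - s (Finsupp.linearCombination R id x),
        by rw [LinearMap.mem_ker, map_sub, hs, sub_self], by abel⟩
  obtain ⟨𝓛, hcg, hind, hsup⟩ := exists_decomposition hg hgc _ _ hcompl
  have h := isInternal_comap hind hsup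
  refine ⟨𝓛, inferInstance, fun L ↦ (Submodule.comap (LinearMap.range s).subtype (L : Submodule R (P →₀ R))).map
    e.symm.toLinearMap, ?_, fun L ↦ ?_⟩
  · refine DirectSum.isInternal_submodule_of_iSupIndep_of_iSup_eq_top ?_ ?_
    · exact (iSupIndep_map_orderIso_iff (Submodule.orderIsoMapComap e.symm)).mpr h.submodule_iSupIndep
    · rw [← Submodule.map_iSup, h.submodule_iSup_eq_top, Submodule.map_top, LinearEquiv.range]
  · exact isCountablyGenerated_map_comap _ _ e.symm.toLinearMap (hsup ▸ le_sSup L.2) (hcg _ L.2)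

section Local

variable [IsLocalRing R]

/-- Every element of a projective module over a local ring lies in a finite free direct summand. -/
theorem exists_free_summand {P : Type u} [AddCommGroup P] [Module R P] [Module.Projective R P]
    (x : P) : ∃ (n : ℕ) (p : (Fin n → R) →ₗ[R] P) (q : P →ₗ[R] (Fin n → R)),
      q ∘ₗ p = LinearMap.id ∧ x ∈ LinearMap.range p := by
  classical
  obtain ⟨s, hs⟩ := ‹Module.Projective R P›.out
  let C : Ideal R := LinearMap.range (LinearMap.applyₗ (R := R) (M₂ := R) x)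
  have hC : ∀ f : P →ₗ[R] R, f x ∈ C := fun f ↦ ⟨f, rfl⟩
  have hfg : C = Ideal.span (Set.range fun j : (s x).support ↦ s x j) := by
    refine le_antisymm ?_ (Ideal.span_le.mpr ?_)
    · rintro _ ⟨f, rfl⟩
      change f x ∈ Ideal.span (Set.range fun j : (s x).support ↦ s x j)
      have hfx : f x = ∑ j ∈ (s x).support, s x j * f j := by
        conv_lhs => rw [← hs x]
        simp [Finsupp.linearCombination_apply, Finsupp.sum, map_sum, map_smul]
      rw [hfx]
      refine Submodule.sum_mem _ fun j hj ↦ ?_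
      exact Ideal.mul_mem_right _ (Ideal.span (Set.range fun j : (s x).support ↦ s x j))
        (Ideal.subset_span ⟨⟨j, hj⟩, rfl⟩)
    · rintro _ ⟨j, rfl⟩
      exact ⟨Finsupp.lapply j.1 ∘ₗ s, rfl⟩
  have hex : ∃ n : ℕ, ∃ a : Fin n → R, Ideal.span (Set.range a) = C :=
    ⟨_, fun i ↦ s x ((s x).support.equivFin.symm i), by
      rw [hfg]; congr 1
      exact (s x).support.equivFin.symm.surjective.range_comp (fun j : (s x).support ↦ s x j)⟩
  let n := Nat.find hex
  obtain ⟨a, ha⟩ : ∃ a : Fin n → R, Ideal.span (Set.range a) = C := Nat.find_spec hex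
  choose f hf using fun i ↦ show a i ∈ C from ha ▸ Ideal.subset_span ⟨i, rfl⟩
  have hcoef : ∀ j : P, ∃ d : Fin n → R, ∑ i, d i * a i = s x j := fun j ↦
    Ideal.mem_span_range_iff_exists_fun.mp (ha ▸ (hC (Finsupp.lapply j ∘ₗ s)))
  choose d hd using hcoef
  let v : Fin n → P := fun i ↦ ∑ j ∈ (s x).support, d j i • j
  have hv : ∑ i, a i • v i = x := by
    conv_rhs => rw [← hs x, Finsupp.linearCombination_apply, Finsupp.sum]
    simp only [v, Finset.smul_sum, smul_smul, id_eq]
    rw [Finset.sum_comm]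
    refine Finset.sum_congr rfl fun j _ ↦ ?_
    rw [← Finset.sum_smul, ← hd j]
    exact congr_arg (· • j) (Finset.sum_congr rfl fun i _ ↦ mul_comm _ _)
  let A : Matrix (Fin n) (Fin n) R := Matrix.of fun k i ↦ f k (v i)
  have hA : ∀ k, ∑ i, A k i * a i = a k := by
    intro k
    conv_rhs => rw [← hf k]
    change _ = f k x
    rw [← hv, map_sum]
    exact Finset.sum_congr rfl fun i _ ↦ by rw [map_smul, smul_eq_mul, mul_comm]; rfl
  have hmin : ∀ k i, IsLocalRing.residue R (A k i) = (1 : Matrix (Fin n) (Fin n) (IsLocalRing.ResidueField R)) k i := by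
    by_contra hne
    push Not at hne
    obtain ⟨k, i, hki⟩ := hne
    -- `a i` is redundant
    have hu : IsUnit (A k i - (1 : Matrix (Fin n) (Fin n) R) k i) := by
      refine isUnit_of_map_unit (IsLocalRing.residue R) _ (isUnit_iff_ne_zero.mpr ?_)
      rw [map_sub, sub_ne_zero]
      convert hki using 1
      simp [Matrix.one_apply, apply_ite (IsLocalRing.residue R)]
    obtain ⟨m, hm⟩ : ∃ m, n = m + 1 := ⟨n - 1, (Nat.succ_pred_eq_of_pos (Fin.pos i)).symm⟩
    have hi_mem : a i ∈ Ideal.span (a '' {i}ᶜ) := by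
      have hsum : ∑ l, (A k l - (1 : Matrix (Fin n) (Fin n) R) k l) * a l = 0 := by
        simp only [sub_mul, Finset.sum_sub_distrib, hA, Matrix.one_apply, ite_mul, one_mul, zero_mul,
          Finset.sum_ite_eq, Finset.mem_univ, if_true, sub_self]
      rw [← Finset.add_sum_erase _ _ (Finset.mem_univ i), add_eq_zero_iff_eq_neg] at hsum
      rw [← Ideal.unit_mul_mem_iff_mem _ hu, hsum, Submodule.neg_mem_iff]
      exact Ideal.sum_mem _ fun l hl ↦ Ideal.mul_mem_left _ _
        (Ideal.subset_span ⟨l, (Finset.mem_erase.mp hl).1, rfl⟩)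
    have hle : Ideal.span (Set.range a) = Ideal.span (a '' {i}ᶜ) := by
      refine le_antisymm (Ideal.span_le.mpr ?_) (Ideal.span_mono (Set.image_subset_range _ _))
      rintro _ ⟨l, rfl⟩
      by_cases hl : l = i
      · exact hl ▸ hi_mem
      · exact Ideal.subset_span ⟨l, hl, rfl⟩
    have hcard : Fintype.card {l : Fin n // l ≠ i} = m := by
      simp [Fintype.card_subtype_compl, hm]
    let e := (Fintype.equivFinOfCardEq hcard).symm
    refine Nat.find_min hex (show m < n by omega) ⟨fun l ↦ a (e l), ?_⟩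
    rw [← ha, hle]
    congr 1
    ext y
    constructor
    · rintro ⟨l, rfl⟩; exact ⟨_, (e l).2, rfl⟩
    · rintro ⟨l, hl, rfl⟩; exact ⟨e.symm ⟨l, hl⟩, by simp⟩
  have hdet : IsUnit A.det := by
    refine isUnit_of_map_unit (IsLocalRing.residue R) _ ?_
    rw [RingHom.map_det, show (IsLocalRing.residue R).mapMatrix A = 1 from Matrix.ext hmin, Matrix.det_one]
    exact isUnit_one
  let p : (Fin n → R) →ₗ[R] P := Fintype.linearCombination R v
  let q₀ : P →ₗ[R] (Fin n → R) := LinearMap.pi f
  refine ⟨n, p, Matrix.mulVecLin A⁻¹ ∘ₗ q₀, ?_, a, ?_⟩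
  · have : q₀ ∘ₗ p = Matrix.mulVecLin A := by
      refine LinearMap.pi_ext' fun i ↦ LinearMap.ext_ring ?_
      ext k
      simp [q₀, p, A, Fintype.linearCombination_apply_single]
    rw [LinearMap.comp_assoc, this, ← Matrix.mulVecLin_mul, Matrix.nonsing_inv_mul A hdet,
      Matrix.mulVecLin_one]
  · rw [Fintype.linearCombination_apply, hv]

/-- A countably generated projective module over a local ring is free. -/
theorem free_of_countable (P : Type u) [AddCommGroup P] [Module R P] [Module.Projective R P]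
    (hc : CAlg.IsCountablyGenerated R P) : Module.Free R P := by
  classical
  obtain ⟨g, hg⟩ : ∃ g : ℕ → P, Submodule.span R (Set.range g) = ⊤ := by
    obtain ⟨s, hs, hspan⟩ := hc
    obtain ⟨g, hg⟩ := (hs.union (Set.countable_singleton (0 : P))).exists_eq_range ⟨0, Or.inr rfl⟩
    exact ⟨g, top_le_iff.mp (hspan ▸ Submodule.span_mono (hg ▸ Set.subset_union_left))⟩
  have step : ∀ (e : P →ₗ[R] P), e ∘ₗ e = e → ∀ y : P, ∃ (n : ℕ) (u : (Fin n → R) →ₗ[R] P)
      (v : P →ₗ[R] (Fin n → R)), v ∘ₗ u = LinearMap.id ∧ e ∘ₗ u = 0 ∧ v ∘ₗ e = 0 ∧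
        y - e y = u (v y) := by
    intro e he y
    let P' := LinearMap.ker e
    let pr : P →ₗ[R] P' := (LinearMap.id - e).codRestrict P' fun z ↦ by
      simp [P', show e (e z) = e z from congr($he z)]
    have hpr : pr ∘ₗ P'.subtype = LinearMap.id := LinearMap.ext fun z ↦ Subtype.ext (by
      simp [pr, show e z.1 = 0 from z.2])
    have : Module.Projective R P' := Module.Projective.of_split (R := R) (P := P') (M := P) P'.subtype pr hpr
    obtain ⟨n, p, q, hqp, c, hc⟩ := exists_free_summand (R := R) (P := P') (pr y)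
    refine ⟨n, P'.subtype ∘ₗ p, q ∘ₗ pr, ?_, ?_, ?_, ?_⟩
    · rw [LinearMap.comp_assoc, ← LinearMap.comp_assoc p P'.subtype pr, hpr, LinearMap.id_comp, hqp]
    · exact LinearMap.ext fun z ↦ (p z).2
    · ext z i
      have h0 : pr (e z) = 0 := Subtype.ext (by simp [pr, show e (e z) = e z from congr($he z)])
      simp [h0]
    · simp only [LinearMap.comp_apply, ← hc]
      rw [show q (p c) = c from congr($hqp c), hc]
      rfl
  choose k u v hvu heu hve hy using step
  let E : ℕ → {e : P →ₗ[R] P // e ∘ₗ e = e} := fun m ↦ Nat.rec (motive := fun _ ↦ {e : P →ₗ[R] P // e ∘ₗ e = e})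
    ⟨0, by simp⟩ (fun m e ↦ ⟨e.1 + u e.1 e.2 (g m) ∘ₗ v e.1 e.2 (g m), by
      ext z
      have h1 : ∀ w, e.1 (u e.1 e.2 (g m) w) = 0 := fun w ↦ congr($(heu e.1 e.2 (g m)) w)
      have h2 : ∀ w, v e.1 e.2 (g m) (e.1 w) = 0 := fun w ↦ congr($(hve e.1 e.2 (g m)) w)
      have h3 : ∀ w, v e.1 e.2 (g m) (u e.1 e.2 (g m) w) = w := fun w ↦ congr($(hvu e.1 e.2 (g m)) w)
      have h4 : e.1 (e.1 z) = e.1 z := congr($(e.2) z)
      simp [h1, h2, h3, h4]⟩) m
  let U := fun m ↦ u (E m).1 (E m).2 (g m)
  let V := fun m ↦ v (E m).1 (E m).2 (g m)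
  have hE : ∀ m z, (E (m + 1)).1 z = (E m).1 z + U m (V m z) := fun m z ↦ rfl
  have hEU : ∀ m w, (E m).1 (U m w) = 0 := fun m w ↦ congr($(heu (E m).1 (E m).2 (g m)) w)
  have hVE : ∀ m w, V m ((E m).1 w) = 0 := fun m w ↦ congr($(hve (E m).1 (E m).2 (g m)) w)
  have hVU : ∀ m w, V m (U m w) = w := fun m w ↦ congr($(hvu (E m).1 (E m).2 (g m)) w)
  have hmono : ∀ l m, l ≤ m → ∀ w, (E m).1 ((E l).1 w) = (E l).1 w ∧ (E l).1 ((E m).1 w) = (E l).1 w := by
    intro l m hlm
    induction m, hlm using Nat.le_induction with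
    | base => exact fun w ↦ ⟨congr($((E l).2) w), congr($((E l).2) w)⟩
    | succ m _ ih =>
      intro w
      have hz : V m ((E l).1 w) = 0 := by rw [← (ih w).1, hVE]
      have hz' : (E l).1 (U m (V m w)) = 0 := by rw [← (ih (U m (V m w))).2, hEU, map_zero]
      exact ⟨by rw [hE, (ih w).1, hz, map_zero, add_zero], by rw [hE, map_add, (ih w).2, hz', add_zero]⟩
  have hfix : ∀ m w, (E (m + 1)).1 (U m w) = U m w := fun m w ↦ by rw [hE, hEU, hVU, zero_add]
  have hfix' : ∀ m w, V m ((E (m + 1)).1 w) = V m w := fun m w ↦ by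
    rw [hE, map_add, hVE, hVU, zero_add]
  have horth : ∀ l m, l ≠ m → ∀ w, V l (U m w) = 0 := by
    intro l m hlm w
    rcases lt_or_gt_of_ne hlm with h | h
    · rw [← hfix' l, ← (hmono (l + 1) m h _).2, hEU, map_zero, map_zero]
    · rw [← hfix m, ← (hmono (m + 1) l h _).1, hVE]
  let w : (Σ m, Fin (k (E m).1 (E m).2 (g m))) → P := fun a ↦ U a.1 (Pi.single a.2 1)
  have hli : LinearIndependent R w := by
    rw [linearIndependent_iff']
    intro s c hsum a ha
    have h := congr_arg (fun z ↦ V a.1 z a.2) hsum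
    simp only [map_sum, map_smul, map_zero, Pi.zero_apply, Finset.sum_apply, Pi.smul_apply] at h
    rw [Finset.sum_eq_single a] at h
    · simpa [w, hVU] using h
    · rintro ⟨m, i⟩ _ hne
      by_cases hm : a.1 = m
      · subst hm
        have : a.2 ≠ i := fun hh ↦ hne (by subst hh; rfl)
        simp [w, hVU, Pi.single_apply, this]
      · simp [w, horth _ _ hm]
    · exact fun hna ↦ absurd ha hna
  have hUmem : ∀ m c, U m c ∈ Submodule.span R (Set.range w) := fun m c ↦ by
    rw [show c = ∑ i, c i • Pi.single i (1 : R) from by ext; simp [Pi.single_apply], map_sum]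
    exact Submodule.sum_mem _ fun i _ ↦ by
      rw [map_smul]; exact Submodule.smul_mem _ _ (Submodule.subset_span ⟨⟨m, i⟩, rfl⟩)
  have hEmem : ∀ m z, (E m).1 z ∈ Submodule.span R (Set.range w) := by
    intro m
    induction m with
    | zero => exact fun z ↦ by simp [E]
    | succ m ih => exact fun z ↦ by rw [hE]; exact Submodule.add_mem _ (ih z) (hUmem _ _)
  refine Module.Free.of_basis (Module.Basis.mk hli (hg.ge.trans (Submodule.span_le.mpr ?_)))
  rintro _ ⟨m, rfl⟩
  have : g m = (E (m + 1)).1 (g m) := by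
    rw [hE, ← hy (E m).1 (E m).2 (g m)]; abel
  rw [this]
  exact SetLike.mem_coe.mpr (hEmem (m + 1) (g m))

end Local

end Groth.Agent.Kaplansky
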