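/-
A direct sum dévissage splits: the ambient module is the internal direct sum of the chosen
complements at the successor steps (helper28).
-/
import Mathlib.LinearAlgebra.DFinsupp
import Mathlib.Algebra.DirectSum.Module
import Mathlib.LinearAlgebra.Isomorphisms
import Mathlib.Order.SuccPred.Limit
import Mathlib.Order.WellFounded

set_option autoImplicit false
universe u

namespace Groth.Agent.Kaplansky

variable {R : Type u} [CommRing R] {M : Type u} [AddCommGroup M] [Module R M]
variable {S : Type u} [LinearOrder S] [WellFoundedLT S]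

theorem devissage_isInternal (Mf : S → Submodule R M) (hmono : Monotone Mf)
    (hlim : ∀ s : S, Order.IsSuccPrelimit s → Mf s = ⨆ t : {t : S // t < s}, Mf t.1)
    (htop : (⨆ s, Mf s) = ⊤) (C : {p : S × S // p.1 ⋖ p.2} → Submodule R M)
    (hinf : ∀ p, Mf p.1.1 ⊓ C p = ⊥) (hsup : ∀ p, Mf p.1.1 ⊔ C p = Mf p.1.2) :
    DirectSum.IsInternal C := by
  classical
  rw [DirectSum.isInternal_submodule_iff_iSupIndep_and_iSup_eq_top]
  refine ⟨?_, ?_⟩
  · rw [iSupIndep_iff_finset_sum_eq_zero_imp_eq_zero]
    intro T v hv hsum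
    by_contra hne
    push_neg at hne
    obtain ⟨p, hp, hmax⟩ := Finset.exists_max_image (T.filter fun i => v i ≠ 0) (fun i => i.1.2)
      (hne.imp fun i hi => Finset.mem_filter.mpr ⟨hi.1, hi.2⟩)
    rw [Finset.mem_filter] at hp
    refine hp.2 ?_
    have hlow : ∑ i ∈ T.erase p, v i ∈ Mf p.1.1 := by
      refine Submodule.sum_mem _ fun i hi => ?_
      obtain ⟨hip, hiT⟩ := Finset.mem_erase.mp hi
      by_cases h0 : v i = 0
      · rw [h0]; exact zero_mem _
      have hle := hmax i (Finset.mem_filter.mpr ⟨hiT, h0⟩)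
      have hlt : i.1.2 < p.1.2 := lt_of_le_of_ne hle fun e => hip <| by
        refine Subtype.ext (Prod.ext ?_ e)
        exact i.2.unique_left (e ▸ p.2)
      exact hmono (p.2.le_of_lt hlt) (hsup i ▸ Submodule.mem_sup_right (hv i hiT))
    rw [← Finset.add_sum_erase T v hp.1] at hsum
    rw [← Submodule.mem_bot R, ← hinf p]
    refine ⟨?_, hv p hp.1⟩
    rw [eq_neg_of_add_eq_zero_left hsum]
    exact neg_mem hlow
  · rw [eq_top_iff, ← htop, iSup_le_iff]
    intro s
    induction s using WellFoundedLT.induction with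
    | _ s ih =>
      by_cases hs : Order.IsSuccPrelimit s
      · rw [hlim s hs, iSup_le_iff]
        exact fun t => ih t.1 t.2
      · obtain ⟨r, hr⟩ := Order.not_isSuccPrelimit_iff_exists_covBy.mp hs
        rw [← hsup ⟨(r, s), hr⟩]
        exact sup_le (ih r hr.lt) (le_iSup C ⟨(r, s), hr⟩)

/-- The complement is isomorphic to the quotient. -/
theorem nonempty_equiv_quotient (A B C : Submodule R M) (hinf : A ⊓ C = ⊥) (hsup : A ⊔ C = B) :
    Nonempty ((↥B ⧸ Submodule.comap B.subtype A) ≃ₗ[R] C) := by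
  subst hsup
  have e := (LinearMap.quotientInfEquivSupQuotient C A)
  rw [sup_comm] at e
  refine ⟨e.symm.trans (Submodule.quotEquivOfEqBot _ ?_)⟩
  rw [← Submodule.comap_inf, inf_comm C A, hinf, Submodule.comap_bot, Submodule.ker_subtype]

end Groth.Agent.Kaplansky
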